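import Groth.Agent.Sga7.H481.LevelTwoPts
import Groth.Agent.Sga7.H733.PtsBasic
import Mathlib.AlgebraicGeometry.Group.Abelian

/-!
# From level two on an open subgroup to level two, for abelian varieties

`levelTwo_of_open`: the statement of `LevelTwoPts.levelTwo` for an abelian variety over the fraction
field of a strictly henselian DVR (commutativity and divisibility are automatic).
-/

set_option autoImplicit false

universe u

open CategoryTheory CategoryTheory.Limits AlgebraicGeometry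
open scoped MonObj

namespace Groth.Agent.Sga7.H481.LevelTwoOfOpen

open SGA7

theorem natCast_ne_zero {R K : Type u} [CommRing R] [IsLocalRing R] [Field K] [Algebra R K]
    (hinj : Function.Injective (algebraMap R K)) {ℓ : ℕ}
    (hℓp : (ℓ : IsLocalRing.ResidueField R) ≠ 0) : (ℓ : K) ≠ 0 := by
  intro h0
  apply hℓp
  have h2 : (ℓ : R) = 0 := hinj (by rw [map_natCast, h0, map_zero])
  rw [← map_natCast (IsLocalRing.residue R), h2, map_zero]

/-- Level two on an open subgroup together with `hT` implies level two, for abelian varieties over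
the fraction field of a strictly henselian DVR. -/
theorem levelTwo_of_open (R K Ω : Type u) [CommRing R] [IsDomain R] [IsDiscreteValuationRing R]
    [Field K] [Algebra R K] [IsFractionRing R K] [Field Ω] [Algebra K Ω] [IsSepClosure K Ω]
    (hR : EtCoh.IsStrictlyHenselianLocalRing R) (ℓ : ℕ) (hℓ : ℓ.Prime)
    (hℓp : (ℓ : IsLocalRing.ResidueField R) ≠ 0)
    (A : Over (Spec (CommRingCat.of K))) [GrpObj A] [IsProper A.hom] [GeometricallyIntegral A.hom]
    (U : OpenSubgroup (Ω ≃ₐ[K] Ω))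
    (hU : ∀ (ν : ℕ) (σ τ : Ω ≃ₐ[K] Ω), σ ∈ U → τ ∈ U → ∀ x : Pts Ω A, x ^ (ℓ ^ ν) = 1 →
      dev σ (dev τ x) = 1)
    (hT : ∀ (K' : IntermediateField K Ω) [FiniteDimensional K K'] (D : Subgroup (Pts Ω A)),
      (∀ x ∈ D, ∃ n : ℕ, x ^ (ℓ ^ n) = 1) → (∀ x ∈ D, ∃ y ∈ D, y ^ ℓ = x) →
      (∀ x ∈ D, ∀ σ ∈ K'.fixingSubgroup, galAct σ x = x) →
      ∀ x ∈ D, ∀ σ : Ω ≃ₐ[K] Ω, galAct σ x = x) :
    ∀ (ν : ℕ) (σ τ : Ω ≃ₐ[K] Ω) (x : Pts Ω A), x ^ (ℓ ^ ν) = 1 → dev σ (dev τ x) = 1 := by
  have : IsCommMonObj A := isCommMonObj_of_isProper_of_geometricallyIntegral A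
  have : IsSepClosed Ω := IsSepClosure.sep_closed K
  exact LevelTwoPts.levelTwo R K Ω hR ℓ hℓ hℓp A
    (fun x => H733.PtsBasic.exists_pow_eq A (natCast_ne_zero (IsFractionRing.injective R K) hℓp) x)
    U hU hT

end Groth.Agent.Sga7.H481.LevelTwoOfOpen
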