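import Groth.Agent.Sga7.H481.Tame
import Groth.Agent.Sga7.H730.StabOpen
import Groth.Prelude.Def_SGA7IX
import Mathlib.FieldTheory.Galois.Infinite

/-!
# From level two on an open subgroup to level two (strictly henselian base)

`R` strictly henselian DVR, `A` a commutative group scheme locally of finite type over `K = Frac R`
whose `ℓ`-power torsion in `A(Ω)` is `ℓ`-divisible.  Suppose

* (`hU`) `(σ - 1)(τ - 1) = 0` on the `ℓ`-power torsion for `σ, τ` in an open subgroup `U`;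
* (`hT`) an `ℓ`-divisible group of `ℓ`-power torsion points which is fixed by the Galois group of a
  finite extension of `K` is fixed by the whole Galois group.

Then `(σ - 1)(τ - 1) = 0` on the `ℓ`-power torsion for all `σ, τ`.
-/

set_option autoImplicit false

universe u

open CategoryTheory CategoryTheory.Limits AlgebraicGeometry
open scoped MonObj

namespace Groth.Agent.Sga7.H481.LevelTwoPts

open SGA7

section Gal

variable {K : Type u} [Field K] {Ω : Type u} [Field Ω] [Algebra K Ω]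
  {A : Over (Spec (CommRingCat.of K))}

theorem galAct_mul_left (σ τ : Ω ≃ₐ[K] Ω) (x : Pts Ω A) :
    galAct (σ * τ) x = galAct σ (galAct τ x) := by
  have h : specAut (σ * τ) = specAut σ ≫ specAut τ := by
    apply Over.OverMorphism.ext
    change Spec.map _ = Spec.map _ ≫ Spec.map _
    rw [← Spec.map_comp, ← CommRingCat.ofHom_comp]
    rfl
  simp only [galAct, h, Category.assoc]

theorem galAct_one_left (x : Pts Ω A) : galAct (1 : Ω ≃ₐ[K] Ω) x = x := by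
  have h : specAut (1 : Ω ≃ₐ[K] Ω) = 𝟙 _ := by
    apply Over.OverMorphism.ext
    change Spec.map (CommRingCat.ofHom (RingHom.id Ω)) = 𝟙 _
    rw [CommRingCat.ofHom_id, Spec.map_id]
  simp only [galAct, h, Category.id_comp]

variable [GrpObj A]

/-- The Galois action as an endomorphism of the group of points. -/
noncomputable def gal (A : Over (Spec (CommRingCat.of K))) [GrpObj A] (σ : Ω ≃ₐ[K] Ω) :
    Pts Ω A →* Pts Ω A where
  toFun := galAct σ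
  map_one' := MonObj.comp_one _
  map_mul' _ _ := MonObj.comp_mul _ _ _

theorem gal_apply (σ : Ω ≃ₐ[K] Ω) (x : Pts Ω A) : gal A σ x = galAct σ x := rfl

theorem dev_eq_one_iff (σ : Ω ≃ₐ[K] Ω) (x : Pts Ω A) : dev σ x = 1 ↔ galAct σ x = x :=
  mul_inv_eq_one

/-- `σ - 1` as an endomorphism of the (commutative) group of points. -/
noncomputable def devHom (A : Over (Spec (CommRingCat.of K))) [GrpObj A] [IsCommMonObj A]
    (σ : Ω ≃ₐ[K] Ω) : Pts Ω A →* Pts Ω A where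
  toFun := dev σ
  map_one' := by
    rw [dev_eq_one_iff, ← gal_apply, map_one]
  map_mul' x y := by
    rw [dev, dev, dev, ← gal_apply, ← gal_apply, ← gal_apply, map_mul, mul_inv, mul_mul_mul_comm]

theorem devHom_apply [IsCommMonObj A] (σ : Ω ≃ₐ[K] Ω) (x : Pts Ω A) : devHom A σ x = dev σ x := rfl

/-- `(σ τ - 1) = (σ - 1)(τ - 1) + (σ - 1) + (τ - 1)`. -/
theorem dev_mul_left [IsCommMonObj A] (σ τ : Ω ≃ₐ[K] Ω) (x : Pts Ω A) :
    dev (σ * τ) x = dev σ (dev τ x) * (dev σ x * dev τ x) := by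
  have h0 : ∀ (ρ : Ω ≃ₐ[K] Ω) (y : Pts Ω A), galAct ρ y = dev ρ y * y := fun ρ y => by
    rw [dev, inv_mul_cancel_right]
  rw [dev, galAct_mul_left, h0 τ x, ← gal_apply, map_mul, gal_apply, gal_apply, h0 σ (dev τ x),
    h0 σ x]
  rw [mul_assoc, mul_assoc, mul_assoc, mul_inv_cancel, mul_one, mul_comm (dev τ x)]

/-- `g (s - 1) x = (g s g⁻¹ - 1) (g x)`. -/
theorem galAct_dev [IsCommMonObj A] (g s : Ω ≃ₐ[K] Ω) (x : Pts Ω A) :
    galAct g (dev s x) = dev (g * s * g⁻¹) (galAct g x) := by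
  have h : galAct (g * s * g⁻¹) (galAct g x) = galAct g (galAct s x) := by
    rw [← galAct_mul_left, inv_mul_cancel_right, galAct_mul_left]
  rw [dev, dev, ← gal_apply, map_mul, map_inv, gal_apply, gal_apply, h]

end Gal

section Main

variable (R K Ω : Type u) [CommRing R] [IsDomain R] [IsDiscreteValuationRing R]
    [Field K] [Algebra R K] [IsFractionRing R K] [Field Ω] [Algebra K Ω] [IsSepClosure K Ω]

/-- Tameness: `(g s g⁻¹ - 1) x = (s - 1) x` for `s` in a normal subgroup of level two. -/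
theorem dev_conj (hR : EtCoh.IsStrictlyHenselianLocalRing R) (ℓ : ℕ) (hℓ : ℓ.Prime)
    (hℓp : (ℓ : IsLocalRing.ResidueField R) ≠ 0)
    (A : Over (Spec (CommRingCat.of K))) [GrpObj A] [IsCommMonObj A] [LocallyOfFiniteType A.hom]
    (I : Subgroup (Ω ≃ₐ[K] Ω)) (hI : I.Normal)
    (hlev : ∀ (ν : ℕ) (σ τ : Ω ≃ₐ[K] Ω), σ ∈ I → τ ∈ I → ∀ x : Pts Ω A, x ^ (ℓ ^ ν) = 1 →
      dev σ (dev τ x) = 1)
    (k : ℕ) (x : Pts Ω A) (hx : x ^ (ℓ ^ k) = 1) (g s : Ω ≃ₐ[K] Ω) (hs : s ∈ I) :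
    dev (g * s * g⁻¹) x = dev s x := by
  have hdk : ∀ σ : Ω ≃ₐ[K] Ω, dev σ x ^ (ℓ ^ k) = 1 := by
    intro σ
    have h := map_pow (devHom A σ) x (ℓ ^ k)
    rw [hx, map_one] at h
    exact h.symm
  let N : Subgroup (Pts Ω A) := (powMonoidHom (ℓ ^ k) : Pts Ω A →* Pts Ω A).ker
  let n : I → Additive N := fun σ => Additive.ofMul ⟨dev (σ : Ω ≃ₐ[K] Ω) x, hdk σ⟩
  have hn : ∀ σ τ : I, n (σ * τ) = n σ + n τ := by
    intro σ τ
    apply Additive.toMul.injective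
    apply Subtype.ext
    change dev ((σ : Ω ≃ₐ[K] Ω) * (τ : Ω ≃ₐ[K] Ω)) x =
      dev (σ : Ω ≃ₐ[K] Ω) x * dev (τ : Ω ≃ₐ[K] Ω) x
    rw [dev_mul_left, hlev k _ _ σ.2 τ.2 x hx, one_mul]
  have hk : ∀ m : Additive N, ℓ ^ k • m = 0 := by
    intro m
    apply Additive.toMul.injective
    apply Subtype.ext
    exact m.toMul.2
  have halg : Algebra.IsAlgebraic K Ω := by
    have : IsGalois K Ω := IsSepClosure.isGalois
    infer_instance
  obtain ⟨E, hE, hfix⟩ := H730.StabOpen.exists_finite A x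
  have h := H481.Tame.tame_finite R K Ω hR ℓ hℓ hℓp I hI k hk n hn E.fixingSubgroup
    E.fixingSubgroup_isOpen (fun σ hσ => by
      apply Additive.toMul.injective
      apply Subtype.ext
      exact (dev_eq_one_iff _ _).2 (hfix _ hσ)) g ⟨s, hs⟩
  have h2 := congrArg (fun m : Additive N => (m.toMul : Pts Ω A)) h
  exact h2

/-- Level two on an open subgroup together with `hT` implies level two. -/
theorem levelTwo (hR : EtCoh.IsStrictlyHenselianLocalRing R) (ℓ : ℕ) (hℓ : ℓ.Prime)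
    (hℓp : (ℓ : IsLocalRing.ResidueField R) ≠ 0)
    (A : Over (Spec (CommRingCat.of K))) [GrpObj A] [IsCommMonObj A] [LocallyOfFiniteType A.hom]
    (hdiv : ∀ x : Pts Ω A, ∃ y : Pts Ω A, y ^ ℓ = x)
    (U : OpenSubgroup (Ω ≃ₐ[K] Ω))
    (hU : ∀ (ν : ℕ) (σ τ : Ω ≃ₐ[K] Ω), σ ∈ U → τ ∈ U → ∀ x : Pts Ω A, x ^ (ℓ ^ ν) = 1 →
      dev σ (dev τ x) = 1)
    (hT : ∀ (K' : IntermediateField K Ω) [FiniteDimensional K K'] (D : Subgroup (Pts Ω A)),
      (∀ x ∈ D, ∃ n : ℕ, x ^ (ℓ ^ n) = 1) → (∀ x ∈ D, ∃ y ∈ D, y ^ ℓ = x) →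
      (∀ x ∈ D, ∀ σ ∈ K'.fixingSubgroup, galAct σ x = x) →
      ∀ x ∈ D, ∀ σ : Ω ≃ₐ[K] Ω, galAct σ x = x) :
    ∀ (ν : ℕ) (σ τ : Ω ≃ₐ[K] Ω) (x : Pts Ω A), x ^ (ℓ ^ ν) = 1 → dev σ (dev τ x) = 1 := by
  have hgal : IsGalois K Ω := IsSepClosure.isGalois
  -- a finite Galois subextension fixed by a subgroup of `U`
  obtain ⟨E, hEfd, hEn, hEU⟩ := (krullTopology_mem_nhds_one_iff_of_normal K Ω
    (U : Set (Ω ≃ₐ[K] Ω))).1 (U.isOpen.mem_nhds U.one_mem)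
  have hEg : IsGalois K E := { to_normal := hEn }
  have hI : E.fixingSubgroup.Normal := inferInstance
  have hlevE : ∀ (ν : ℕ) (σ τ : Ω ≃ₐ[K] Ω), σ ∈ E.fixingSubgroup → τ ∈ E.fixingSubgroup →
      ∀ x : Pts Ω A, x ^ (ℓ ^ ν) = 1 → dev σ (dev τ x) = 1 :=
    fun ν σ τ hσ hτ => hU ν σ τ (hEU hσ) (hEU hτ)
  -- the groups `(s - 1) P`
  let D : (Ω ≃ₐ[K] Ω) → Subgroup (Pts Ω A) := fun s =>
    { carrier := {w | ∃ (x : Pts Ω A) (n : ℕ), x ^ (ℓ ^ n) = 1 ∧ dev s x = w}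
      mul_mem' := by
        rintro _ _ ⟨x, n, hx, rfl⟩ ⟨y, m, hy, rfl⟩
        refine ⟨x * y, n + m, ?_, map_mul (devHom A s) x y⟩
        have h1 : x ^ (ℓ ^ (n + m)) = 1 := by rw [pow_add, pow_mul, hx, one_pow]
        have h2 : y ^ (ℓ ^ (n + m)) = 1 := by rw [pow_add, mul_comm (ℓ ^ n), pow_mul, hy, one_pow]
        rw [mul_pow, h1, h2, mul_one]
      one_mem' := ⟨1, 0, one_pow _, map_one (devHom A s)⟩
      inv_mem' := by
        rintro _ ⟨x, n, hx, rfl⟩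
        exact ⟨x⁻¹, n, by rw [inv_pow, hx, inv_one], map_inv (devHom A s) x⟩ }
  have hmem : ∀ (s : Ω ≃ₐ[K] Ω) (n : ℕ) (x : Pts Ω A), x ^ (ℓ ^ n) = 1 → dev s x ∈ D s :=
    fun s n x hx => ⟨x, n, hx, rfl⟩
  have htor : ∀ (s : Ω ≃ₐ[K] Ω), ∀ w ∈ D s, ∃ n : ℕ, w ^ (ℓ ^ n) = 1 := by
    rintro s _ ⟨x, n, hx, rfl⟩
    refine ⟨n, ?_⟩
    have h := map_pow (devHom A s) x (ℓ ^ n)
    rw [hx, map_one] at h
    exact h.symm
  have hdv : ∀ (s : Ω ≃ₐ[K] Ω), ∀ w ∈ D s, ∃ v ∈ D s, v ^ ℓ = w := by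
    rintro s _ ⟨x, n, hx, rfl⟩
    obtain ⟨y, rfl⟩ := hdiv x
    refine ⟨dev s y, ⟨y, n + 1, ?_, rfl⟩, (map_pow (devHom A s) y ℓ).symm⟩
    rw [pow_succ', pow_mul]
    exact hx
  -- step 1: `(s - 1) P` is fixed by everything for `s ∈ Gal(Ω/E)`
  have h1 : ∀ s ∈ E.fixingSubgroup, ∀ (n : ℕ) (x : Pts Ω A), x ^ (ℓ ^ n) = 1 →
      ∀ g : Ω ≃ₐ[K] Ω, galAct g (dev s x) = dev s x := by
    intro s hs n x hx g
    refine hT E (D s) (htor s) (hdv s) ?_ _ (hmem s n x hx) g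
    rintro _ ⟨y, m, hy, rfl⟩ σ hσ
    exact (dev_eq_one_iff _ _).1 (hlevE m σ s hσ hs y hy)
  -- step 2: `(g - 1) P` is fixed by `Gal(Ω/E)`
  have h2 : ∀ (g : Ω ≃ₐ[K] Ω) (s : Ω ≃ₐ[K] Ω), s ∈ E.fixingSubgroup → ∀ (n : ℕ) (x : Pts Ω A),
      x ^ (ℓ ^ n) = 1 → galAct s (dev g x) = dev g x := by
    intro g s hs n x hx
    have hgx : (galAct g x) ^ (ℓ ^ n) = 1 := by
      rw [← gal_apply, ← map_pow, hx, map_one]
    have h3 := galAct_dev g s x
    rw [h1 s hs n x hx g, dev_conj R K Ω hR ℓ hℓ hℓp A E.fixingSubgroup hI hlevE n (galAct g x) hgx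
      g s hs] at h3
    rw [← dev_eq_one_iff]
    have h4 := map_mul (devHom A s) (galAct g x) x⁻¹
    rw [devHom_apply, devHom_apply, map_inv, devHom_apply, ← h3, mul_inv_cancel] at h4
    exact h4
  -- conclusion
  intro ν σ τ x hx
  rw [dev_eq_one_iff]
  refine hT E (D τ) (htor τ) (hdv τ) ?_ _ (hmem τ ν x hx) σ
  rintro _ ⟨y, m, hy, rfl⟩ s hs
  exact h2 τ s hs m y hy

end Main

end Groth.Agent.Sga7.H481.LevelTwoPts
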