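import Groth.Prelude.Def_SGA7a
import Groth.Agent.Sga4h.TameExt
import Mathlib.FieldTheory.IsSepClosed
import Mathlib.FieldTheory.PurelyInseparable.Basic
import Mathlib.RingTheory.Valuation.ValuationSubring
import Mathlib.RingTheory.IntegralClosure.IntegralRestrict

/-!
# Valuation rings of algebraic extensions of a strictly henselian discretely valued field

`R` strictly henselian DVR with fraction field `K`, `Ω / K` separable algebraic, `W` a valuation
subring of `Ω` over `R` (`SGA7.LiesOver K R W`).

* `mem_iff_isIntegral`: `W` is the integral closure of `R` in `Ω`.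
* `unique`: so `W` is unique.
* `isInertia`: every `σ ∈ Aut(Ω/K)` lies in the inertia group of `W`.
-/

set_option autoImplicit false

universe u

namespace Groth.Agent.Sga7.H481.SHField

open IsLocalRing

section basic

variable {K : Type u} [Field K] {Ω : Type u} [Field Ω] [Algebra K Ω]

/-- The local homomorphism `R → W`. -/
noncomputable def toW {R : Type u} [CommRing R] [IsLocalRing R] [Algebra R K]
    {W : ValuationSubring Ω} (hW : SGA7.LiesOver K R W) : R →+* W :=
  RingHom.codRestrict ((algebraMap K Ω).comp (algebraMap R K)) W.toSubring (fun r => hW.1 r)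

@[simp]
theorem coe_toW {R : Type u} [CommRing R] [IsLocalRing R] [Algebra R K]
    {W : ValuationSubring Ω} (hW : SGA7.LiesOver K R W) (r : R) :
    (toW hW r : Ω) = algebraMap K Ω (algebraMap R K r) := rfl

theorem isLocalHom_toW {R : Type u} [CommRing R] [IsLocalRing R] [Algebra R K]
    {W : ValuationSubring Ω} (hW : SGA7.LiesOver K R W) : IsLocalHom (toW hW) := by
  constructor
  intro r hr
  by_contra hn
  have h1 := hW.2 r ((mem_maximalIdeal r).2 hn)
  have h2 : toW hW r ∈ maximalIdeal W := (W.valuation_lt_one_iff (toW hW r)).2 h1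
  exact (mem_maximalIdeal _).1 h2 hr

/-- Elements of `Ω` integral over `R` lie in `W`. -/
theorem mem_of_isIntegral {R : Type u} [CommRing R] [IsLocalRing R] [Algebra R K] [Algebra R Ω]
    [IsScalarTower R K Ω] {W : ValuationSubring Ω} (hW : SGA7.LiesOver K R W) {x : Ω}
    (hx : IsIntegral R x) : x ∈ W := by
  obtain ⟨p, hp, hpx⟩ := hx
  have h1 : IsIntegral W x := by
    refine ⟨p.map (toW hW), hp.map _, ?_⟩
    rw [Polynomial.eval₂_map]
    rw [← hpx]
    congr 1
    ext r
    change (toW hW r : Ω) = algebraMap R Ω r
    rw [coe_toW, ← IsScalarTower.algebraMap_apply]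
  obtain ⟨y, hy⟩ := IsIntegrallyClosed.algebraMap_eq_of_integral h1
  rw [← hy]
  exact y.2

end basic

section henselian

variable (R K Ω : Type u) [CommRing R] [IsDomain R] [IsDiscreteValuationRing R]
  [Field K] [Algebra R K] [IsFractionRing R K] [Field Ω] [Algebra K Ω] [Algebra R Ω]
  [IsScalarTower R K Ω] [Algebra.IsSeparable K Ω]

/-- `W` is integral over `R` if `R` is strictly henselian. -/
theorem isIntegral_of_mem (hR : EtCoh.IsStrictlyHenselianLocalRing R) {W : ValuationSubring Ω}
    (hW : SGA7.LiesOver K R W) {x : Ω} (hx : x ∈ W) : IsIntegral R x := by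
  have hxK : IsIntegral K x := Algebra.IsIntegral.isIntegral x
  let L := IntermediateField.adjoin K {x}
  have hfd : FiniteDimensional K L := IntermediateField.adjoin.finiteDimensional hxK
  have hDVR : IsDiscreteValuationRing (integralClosure R L) :=
    Sga4h.TameExt.isDiscreteValuationRing R K L hR
  have hfr : IsFractionRing (integralClosure R L) L := Sga4h.TameExt.isFractionRing R K L
  have hstr : EtCoh.IsStrictlyHenselianLocalRing (integralClosure R L) :=
    Sga4h.TameExt.isStrictlyHenselianLocalRing R L hR
  let x' : L := ⟨x, IntermediateField.mem_adjoin_simple_self K x⟩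
  have htoW : ∀ y : integralClosure R L, ((y : L) : Ω) ∈ W := by
    intro y
    apply mem_of_isIntegral (K := K) hW
    exact y.2.map (L.val.restrictScalars R)
  rcases ValuationRing.isInteger_or_isInteger (integralClosure R L) x' with ⟨y, hy⟩ | ⟨y, hy⟩
  · have h1 : IsIntegral R x' := by
      rw [← hy]
      exact y.2
    exact h1.map (L.val.restrictScalars R)
  · -- `y = x⁻¹`
    by_cases hx0 : x = 0
    · rw [hx0]
      exact isIntegral_zero
    have hyx : ((y : L) : Ω) * x = 1 := by
      have h2 : (algebraMap (integralClosure R L) L y) = x'⁻¹ := hy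
      have h3 : ((algebraMap (integralClosure R L) L y : L) : Ω) = (x'⁻¹ : L) := congrArg _ h2
      change ((algebraMap (integralClosure R L) L y : L) : Ω) * x = 1
      rw [h3]
      change (x : Ω)⁻¹ * x = 1
      exact inv_mul_cancel₀ hx0
    by_cases hyu : IsUnit y
    · obtain ⟨u, hu⟩ := hyu
      have h4 : x' = ((u⁻¹ : (integralClosure R L)ˣ) : L) := by
        have h5 : ((u : integralClosure R L) : L) * ((u⁻¹ : (integralClosure R L)ˣ) : L) = 1 := by
          rw [← MulMemClass.coe_mul, Units.mul_inv]
          rfl
        have h6 : (y : L) * x' = 1 := Subtype.ext hyx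
        have h7 : (y : L) ≠ 0 := left_ne_zero_of_mul_eq_one h6
        rw [hu] at h5
        exact mul_left_cancel₀ h7 (h6.trans h5.symm)
      have h1 : IsIntegral R x' := by
        rw [h4]
        exact (u⁻¹ : (integralClosure R L)ˣ).1.2
      exact h1.map (L.val.restrictScalars R)
    · -- `y` in the maximal ideal, so `v(y) < 1`
      exfalso
      obtain ⟨π, hπ⟩ := IsDiscreteValuationRing.exists_irreducible R
      obtain ⟨ϖ, hϖ⟩ := IsDiscreteValuationRing.exists_irreducible (integralClosure R L)
      obtain ⟨e, f, -, -, hram⟩ := Sga4h.TameExt.exists_ramification R K L hR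
      obtain ⟨u, hu⟩ := hram ϖ hϖ π hπ
      let g : integralClosure R L →+* W :=
        RingHom.codRestrict ((algebraMap L Ω).comp (algebraMap (integralClosure R L) L))
          W.toSubring htoW
      have hg : ∀ z, (g z : Ω) = ((z : L) : Ω) := fun _ => rfl
      have hloc := isLocalHom_toW (K := K) hW
      have hgπ : g (algebraMap R (integralClosure R L) π) = toW (K := K) hW π := by
        apply Subtype.ext
        rw [hg, coe_toW, ← IsScalarTower.algebraMap_apply R K Ω]
        rfl
      have h5 : ¬ IsUnit (g ϖ) := by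
        intro h
        have h6 : IsUnit (toW (K := K) hW π) := by
          rw [← hgπ, hu, map_mul, map_pow]
          exact (u.isUnit.map g).mul (h.pow e)
        exact hπ.not_isUnit (hloc.map_nonunit _ h6)
      have h7 : ϖ ∣ y := by
        rw [← Ideal.mem_span_singleton, ← hϖ.maximalIdeal_eq]
        exact hyu
      have h8 : IsUnit (g y) := by
        have h9 : g y * ⟨x, hx⟩ = 1 := Subtype.ext hyx
        exact IsUnit.of_mul_eq_one _ h9
      exact h5 (isUnit_of_dvd_unit (map_dvd g h7) h8)

/-- `W` is the integral closure of `R` in `Ω` if `R` is strictly henselian. -/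
theorem mem_iff_isIntegral (hR : EtCoh.IsStrictlyHenselianLocalRing R) {W : ValuationSubring Ω}
    (hW : SGA7.LiesOver K R W) {x : Ω} : x ∈ W ↔ IsIntegral R x :=
  ⟨isIntegral_of_mem R K Ω hR hW, mem_of_isIntegral hW⟩

/-- Uniqueness of the valuation ring over a strictly henselian DVR. -/
theorem unique (hR : EtCoh.IsStrictlyHenselianLocalRing R) {W W' : ValuationSubring Ω}
    (hW : SGA7.LiesOver K R W) (hW' : SGA7.LiesOver K R W') : W = W' := by
  ext x
  rw [mem_iff_isIntegral R K Ω hR hW, mem_iff_isIntegral R K Ω hR hW']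

/-- Over a strictly henselian DVR every automorphism is in the inertia group. -/
theorem isInertia (hR : EtCoh.IsStrictlyHenselianLocalRing R) {W : ValuationSubring Ω}
    (hW : SGA7.LiesOver K R W) (σ : Ω ≃ₐ[K] Ω) : SGA7.IsInertia W σ := by
  have hσ : ∀ x ∈ W, σ x ∈ W := by
    intro x hx
    rw [mem_iff_isIntegral R K Ω hR hW] at hx ⊢
    exact hx.map (σ.toAlgHom.restrictScalars R)
  let σW : W →+* W := RingHom.codRestrict ((σ : Ω →+* Ω).comp W.subtype) W.toSubring
    (fun x => hσ x x.2)
  have hσW : ∀ x : W, (σW x : Ω) = σ x := fun _ => rfl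
  let _ : Algebra R W := (toW (K := K) hW).toAlgebra
  have hint : Algebra.IsIntegral R W := by
    constructor
    intro x
    obtain ⟨p, hp, hpx⟩ := isIntegral_of_mem R K Ω hR hW x.2
    refine ⟨p, hp, ?_⟩
    apply Subtype.ext
    change (W.subtype (Polynomial.eval₂ (toW (K := K) hW) x p)) = 0
    rw [Polynomial.hom_eval₂]
    refine Eq.trans ?_ hpx
    congr 1
    ext r
    change algebraMap K Ω (algebraMap R K r) = algebraMap R Ω r
    rw [← IsScalarTower.algebraMap_apply]
  obtain ⟨h1, h2⟩ := hR
  obtain ⟨h3, h4, h5⟩ := Groth.Agent.S1964.result R W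
  have hpi := (h5 h2).2 h4
  let _ : Algebra (ResidueField R) (ResidueField W) := (ResidueField.map (algebraMap R W)).toAlgebra
  have hloc : IsLocalHom σW := by
    constructor
    intro x hx
    obtain ⟨u, hu⟩ := hx
    -- the inverse of `σ x` is in `W`, apply `σ⁻¹` and integrality
    have h6 : ∀ y ∈ W, σ.symm y ∈ W := by
      intro y hy
      rw [mem_iff_isIntegral R K Ω ⟨h1, h2⟩ hW] at hy ⊢
      exact hy.map (σ.symm.toAlgHom.restrictScalars R)
    have h7 : x * ⟨σ.symm ((u⁻¹ : Wˣ) : W), h6 _ (u⁻¹ : Wˣ).1.2⟩ = 1 := by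
      apply Subtype.ext
      change (x : Ω) * σ.symm _ = 1
      apply σ.injective
      rw [map_mul, AlgEquiv.apply_symm_apply, map_one, ← hσW, ← hu]
      have := congrArg (fun z : W => (z : Ω)) (Units.mul_inv u)
      exact this
    exact IsUnit.of_mul_eq_one _ h7
  intro x hx
  refine ⟨hσ x hx, ?_⟩
  have hres : ∀ y : ResidueField W, ResidueField.map σW y = y := by
    intro y
    obtain ⟨q, hq⟩ := ExpChar.exists (ResidueField R)
    have hqW : ExpChar (ResidueField W) q :=
      expChar_of_injective_algebraMap (algebraMap (ResidueField R) (ResidueField W)).injective q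
    obtain ⟨n, z, hz⟩ := (isPurelyInseparable_iff_pow_mem (ResidueField R) q).1 hpi y
    apply iterateFrobenius_inj (ResidueField W) q n
    rw [iterateFrobenius_def, iterateFrobenius_def, ← map_pow, ← hz]
    obtain ⟨r, rfl⟩ := residue_surjective z
    change ResidueField.map σW (residue W (algebraMap R W r)) = residue W (algebraMap R W r)
    rw [ResidueField.map_residue]
    congr 1
    apply Subtype.ext
    rw [hσW]
    change σ (algebraMap K Ω _) = algebraMap K Ω _
    exact σ.commutes _
  have h8 := hres (residue W ⟨x, hx⟩)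
  rw [ResidueField.map_residue, ← sub_eq_zero, ← map_sub, residue_eq_zero_iff] at h8
  exact (W.valuation_lt_one_iff _).1 h8

end henselian

end Groth.Agent.Sga7.H481.SHField
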