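import Groth.Agent.Sga4h.WildPro
import Mathlib.FieldTheory.KrullTopology
import Mathlib.FieldTheory.Galois.Basic
import Mathlib.FieldTheory.Normal.Closure
import Mathlib.FieldTheory.IsSepClosed
import Mathlib.Algebra.Group.Subgroup.Basic

/-!
# The tame `ℓ`-part of inertia over a strictly henselian discrete valuation ring

`R` strictly henselian DVR with fraction field `K`, `Ω` a Galois extension of `K` (a separable
closure in the applications), `ℓ` a prime invertible in `R`, `π` a uniformizer.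

* `exists_coprime_pow_mem`: if `s ∈ Gal(Ω/K)` fixes all `ℓ`-power roots of `π`, then for every open
  subgroup `U` some power `s ^ d ∈ U` with `d` prime to `ℓ`.
* `comm_fix`: commutators fix all `ℓ`-power roots of `π`.
* `tame`: a "continuous" homomorphism `n : I' → M` (`I'` a normal subgroup of `Gal(Ω/K)`, `M`
  `ℓ`-adically separated) satisfies `n (g s g⁻¹) = n s` for all `g`.
* `not_dvd_finrank_adjoin_roots`: finite extensions of `K(π^(1/ℓ^∞))` inside `Ω` have degree prime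
  to `ℓ`.
-/

set_option autoImplicit false

universe u

namespace Groth.Agent.Sga7.H481.Tame

open IntermediateField

section

variable (R K Ω : Type u) [CommRing R] [IsDomain R] [IsDiscreteValuationRing R]
  [Field K] [Algebra R K] [IsFractionRing R K] [Field Ω] [Algebra K Ω] [Algebra R Ω]
  [IsScalarTower R K Ω] [IsGalois K Ω]

/-- (T1): finite subextensions of `Ω / K(π^(1/ℓ^∞))` have degree prime to `ℓ` (`Ω` separably closed). -/
theorem not_dvd_finrank_adjoin_roots [IsSepClosed Ω] (hR : EtCoh.IsStrictlyHenselianLocalRing R)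
    (ℓ : ℕ) [hℓ : Fact ℓ.Prime] (hu : IsUnit (ℓ : R)) {π : R} (hπ : Irreducible π)
    (M : IntermediateField (IntermediateField.adjoin K
      {z : Ω | ∃ a : ℕ, z ^ (ℓ ^ a) = algebraMap R Ω π}) Ω)
    [FiniteDimensional (IntermediateField.adjoin K
      {z : Ω | ∃ a : ℕ, z ^ (ℓ ^ a) = algebraMap R Ω π}) M] :
    ¬ ℓ ∣ Module.finrank (IntermediateField.adjoin K
      {z : Ω | ∃ a : ℕ, z ^ (ℓ ^ a) = algebraMap R Ω π}) M := by
  refine Sga4h.WildPro.not_dvd_finrank R K Ω hR ℓ hu hπ _ (fun a => ?_) M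
  have hne : NeZero ((ℓ ^ a : ℕ) : Ω) := by
    constructor
    have h1 : IsUnit ((ℓ : ℕ) : Ω) := by
      have := hu.map (algebraMap R Ω)
      rwa [map_natCast] at this
    rw [Nat.cast_pow]
    exact pow_ne_zero _ h1.ne_zero
  obtain ⟨z, hz⟩ := IsSepClosed.exists_pow_nat_eq (algebraMap R Ω π) (ℓ ^ a)
  exact ⟨z, IntermediateField.subset_adjoin K _ ⟨a, hz⟩, hz⟩

/-- Elements of the Galois group fixing all `ℓ`-power roots of a uniformizer are pro-prime-to-`ℓ`. -/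
theorem exists_coprime_pow_mem [IsSepClosed Ω] (hR : EtCoh.IsStrictlyHenselianLocalRing R)
    (ℓ : ℕ) [hℓ : Fact ℓ.Prime] (hu : IsUnit (ℓ : R)) {π : R} (hπ : Irreducible π)
    (s : Ω ≃ₐ[K] Ω) (hs : ∀ (a : ℕ) (z : Ω), z ^ (ℓ ^ a) = algebraMap R Ω π → s z = z)
    (U : Subgroup (Ω ≃ₐ[K] Ω)) (hU : IsOpen (U : Set (Ω ≃ₐ[K] Ω))) :
    ∃ d : ℕ, d.Coprime ℓ ∧ s ^ d ∈ U := by
  obtain ⟨F, hF, hFU⟩ := (krullTopology_mem_nhds_one_iff K Ω (U : Set (Ω ≃ₐ[K] Ω))).1
    (hU.mem_nhds U.one_mem)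
  let K₁ : IntermediateField K Ω := IntermediateField.fixedField (Subgroup.zpowers s)
  have hsK : ∀ x : K₁, s x = x := fun x => x.2 ⟨s, Subgroup.mem_zpowers s⟩
  -- `s` as an automorphism over `K₁`
  let s' : Ω ≃ₐ[K₁] Ω := AlgEquiv.ofRingEquiv (f := s.toRingEquiv) (fun x => hsK x)
  have hs' : ∀ x, s' x = s x := fun _ => rfl
  have hroots : ∀ a : ℕ, ∃ z ∈ K₁, z ^ (ℓ ^ a) = algebraMap R Ω π := by
    intro a
    have hne : NeZero ((ℓ ^ a : ℕ) : Ω) := by
      constructor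
      have h1 : IsUnit ((ℓ : ℕ) : Ω) := by
        have := hu.map (algebraMap R Ω)
        rwa [map_natCast] at this
      rw [Nat.cast_pow]
      exact pow_ne_zero _ h1.ne_zero
    obtain ⟨z, hz⟩ := IsSepClosed.exists_pow_nat_eq (algebraMap R Ω π) (ℓ ^ a)
    refine ⟨z, ?_, hz⟩
    rintro ⟨t, ht⟩
    obtain ⟨k, rfl⟩ := ht
    change (s ^ k) z = z
    have h2 : s ∈ MulAction.stabilizer (Ω ≃ₐ[K] Ω) z := hs a z hz
    exact Subgroup.zpow_mem _ h2 k
  -- generators of `F`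
  obtain ⟨θ, hθ⟩ := Field.exists_primitive_element K F
  have hnorm : Normal K₁ Ω := inferInstance
  let L : IntermediateField K₁ Ω := IntermediateField.adjoin K₁ {(θ : Ω)}
  have hLfd : FiniteDimensional K₁ L :=
    IntermediateField.adjoin.finiteDimensional (Algebra.IsIntegral.isIntegral _)
  let M : IntermediateField K₁ Ω := normalClosure K₁ L Ω
  have hMn : Normal K₁ M := normalClosure.normal K₁ L Ω
  have hMfd : FiniteDimensional K₁ M := normalClosure.is_finiteDimensional K₁ L Ω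
  have hMg : IsGalois K₁ M := ⟨⟩
  have hnd := Sga4h.WildPro.not_dvd_finrank R K Ω hR ℓ hu hπ K₁ hroots M
  refine ⟨Module.finrank K₁ M, ((Nat.Prime.coprime_iff_not_dvd hℓ.out).2 hnd).symm, ?_⟩
  apply hFU
  have hcard : Nat.card (M ≃ₐ[K₁] M) = Module.finrank K₁ M := IsGalois.card_aut_eq_finrank K₁ M
  have h3 : (AlgEquiv.restrictNormalHom M s') ^ Module.finrank K₁ M = 1 := by
    rw [← hcard]
    exact pow_card_eq_one'
  have h4 : ∀ x ∈ M, (s' ^ Module.finrank K₁ M) x = x := by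
    intro x hx
    have h5 : AlgEquiv.restrictNormalHom M (s' ^ Module.finrank K₁ M) = 1 := by
      rw [map_pow, h3]
    have h6 := AlgEquiv.restrictNormal_commutes (s' ^ Module.finrank K₁ M) M ⟨x, hx⟩
    have h7 : (s' ^ Module.finrank K₁ M).restrictNormal M ⟨x, hx⟩ = ⟨x, hx⟩ := by
      change (AlgEquiv.restrictNormalHom M (s' ^ Module.finrank K₁ M)) ⟨x, hx⟩ = _
      rw [h5]
      rfl
    rw [h7] at h6
    exact h6.symm
  have h8 : ∀ (k : ℕ) (x : Ω), (s' ^ k) x = (s ^ k) x := by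
    intro k
    induction k with
    | zero => intro x; rfl
    | succ k ih =>
      intro x
      rw [pow_succ, pow_succ, AlgEquiv.mul_apply, AlgEquiv.mul_apply, hs', ih]
  have hθM : (θ : Ω) ∈ M :=
    IntermediateField.le_normalClosure L (IntermediateField.mem_adjoin_simple_self K₁ (θ : Ω))
  have hFM : ∀ x ∈ F, x ∈ M := by
    intro x hx
    have h9 : (⟨x, hx⟩ : F) ∈ IntermediateField.adjoin K {θ} := by
      rw [hθ]
      exact IntermediateField.mem_top
    have h10 : x ∈ IntermediateField.adjoin K {(θ : Ω)} := by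
      have h11 : (IntermediateField.adjoin K {θ}).map F.val = IntermediateField.adjoin K {(θ : Ω)} := by
        rw [IntermediateField.adjoin_map, Set.image_singleton]
        rfl
      rw [← h11]
      exact ⟨_, h9, rfl⟩
    have h12 : IntermediateField.adjoin K {(θ : Ω)} ≤ M.restrictScalars K := by
      rw [IntermediateField.adjoin_simple_le_iff]
      exact hθM
    exact h12 h10
  change s ^ _ ∈ F.fixingSubgroup
  rw [IntermediateField.mem_fixingSubgroup_iff]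
  intro x hx
  rw [← h8]
  exact h4 x (hFM x hx)

omit [IsDiscreteValuationRing R] [IsGalois K Ω] in
/-- Galois automorphisms act on the `m`-th roots of `a ∈ R` through `R` (`m` invertible in `R`). -/
theorem exists_root_act (hR : EtCoh.IsStrictlyHenselianLocalRing R) (m : ℕ) (hm : IsUnit (m : R))
    {a : R} (ha : a ≠ 0) {z : Ω} (hz : z ^ m = algebraMap R Ω a) (s : Ω ≃ₐ[K] Ω) :
    ∃ r : R, s z = algebraMap R Ω r * z := by
  have hinj : Function.Injective (algebraMap R Ω) := by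
    rw [IsScalarTower.algebraMap_eq R K Ω]
    exact (algebraMap K Ω).injective.comp (IsFractionRing.injective R K)
  have : FaithfulSMul R Ω := (faithfulSMul_iff_algebraMap_injective R Ω).2 hinj
  refine Sga4h.WildPro.exists_eq_mul R hR m hm (a := algebraMap R Ω a) ?_ ?_ hz
  · rwa [Ne, map_eq_zero_iff _ hinj]
  · rw [← map_pow, hz, IsScalarTower.algebraMap_apply R K Ω, AlgEquiv.commutes]

omit [IsDiscreteValuationRing R] [IsGalois K Ω] in
/-- Commutators act trivially on the `m`-th roots of elements of `R` (`m` invertible in `R`). -/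
theorem comm_fix (hR : EtCoh.IsStrictlyHenselianLocalRing R) (m : ℕ) (hm : IsUnit (m : R))
    {a : R} (ha : a ≠ 0) {z : Ω} (hz : z ^ m = algebraMap R Ω a) (g s : Ω ≃ₐ[K] Ω) :
    (g * s * g⁻¹ * s⁻¹) z = z := by
  have hR' : ∀ (t : Ω ≃ₐ[K] Ω) (r : R), t (algebraMap R Ω r) = algebraMap R Ω r := by
    intro t r
    rw [IsScalarTower.algebraMap_apply R K Ω, AlgEquiv.commutes]
  obtain ⟨r, hr⟩ := exists_root_act R K Ω hR m hm ha hz s
  obtain ⟨q, hq⟩ := exists_root_act R K Ω hR m hm ha hz g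
  have h1 : (g * s) z = (s * g) z := by
    change g (s z) = s (g z)
    rw [hr, hq, map_mul, map_mul, hR', hR', hq, hr]
    ring
  -- `z = (s g) w` for `w = (s g)⁻¹ z`, again an `m`-th root
  have h2 : ∀ w : Ω, w ^ m = algebraMap R Ω a → (g * s) w = (s * g) w := by
    intro w hw
    obtain ⟨r, hr⟩ := exists_root_act R K Ω hR m hm ha hw s
    obtain ⟨q, hq⟩ := exists_root_act R K Ω hR m hm ha hw g
    change g (s w) = s (g w)
    rw [hr, hq, map_mul, map_mul, hR', hR', hq, hr]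
    ring
  have h3 := h2 ((g⁻¹ * s⁻¹) z) (by rw [← map_pow, hz, hR'])
  have h4 : (g * s * g⁻¹ * s⁻¹) z = (g * s) ((g⁻¹ * s⁻¹) z) := by
    simp only [AlgEquiv.mul_apply]
  rw [h4, h3]
  change s (g (g⁻¹ (s⁻¹ z))) = z
  rw [← AlgEquiv.mul_apply g g⁻¹, mul_inv_cancel, AlgEquiv.one_apply, ← AlgEquiv.mul_apply s s⁻¹,
    mul_inv_cancel, AlgEquiv.one_apply]

/-- (T2): continuous homomorphisms from a normal subgroup of the Galois group to an `ℓ`-adically
separated group are invariant under conjugation. -/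
theorem tame [IsSepClosed Ω] (hR : EtCoh.IsStrictlyHenselianLocalRing R)
    (ℓ : ℕ) [hℓ : Fact ℓ.Prime] (hu : IsUnit (ℓ : R))
    (I' : Subgroup (Ω ≃ₐ[K] Ω)) [I'.Normal] {M : Type*} [AddCommGroup M]
    (hsep : ∀ m : M, (∀ k : ℕ, ∃ m' : M, m = ℓ ^ k • m') → m = 0)
    (n : I' → M) (hn : ∀ s t, n (s * t) = n s + n t)
    (hcont : ∀ k : ℕ, ∃ U : Subgroup (Ω ≃ₐ[K] Ω), IsOpen (U : Set (Ω ≃ₐ[K] Ω)) ∧
      ∀ s : I', (s : Ω ≃ₐ[K] Ω) ∈ U → ∃ m' : M, n s = ℓ ^ k • m')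
    (g : Ω ≃ₐ[K] Ω) (s : I') :
    n ⟨g * s * g⁻¹, Subgroup.Normal.conj_mem inferInstance _ s.2 g⟩ = n s := by
  obtain ⟨π, hπ⟩ := IsDiscreteValuationRing.exists_irreducible R
  have hn1 : n 1 = 0 := by
    have := hn 1 1
    rw [mul_one] at this
    exact left_eq_add.1 this
  have hnpow : ∀ (t : I') (d : ℕ), n (t ^ d) = d • n t := by
    intro t d
    induction d with
    | zero => rw [pow_zero, hn1, zero_smul]
    | succ d ih => rw [pow_succ, hn, ih, succ_nsmul]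
  -- elements fixing the roots of `π` are killed
  have key : ∀ c : I', (∀ (a : ℕ) (z : Ω), z ^ (ℓ ^ a) = algebraMap R Ω π →
      (c : Ω ≃ₐ[K] Ω) z = z) → n c = 0 := by
    intro c hc
    apply hsep
    intro k
    obtain ⟨U, hU, hUn⟩ := hcont k
    obtain ⟨d, hd, hdU⟩ := exists_coprime_pow_mem R K Ω hR ℓ hu hπ c hc U hU
    obtain ⟨m', hm'⟩ := hUn (c ^ d) hdU
    rw [hnpow] at hm'
    have hco : IsCoprime (d : ℤ) ((ℓ ^ k : ℕ) : ℤ) :=
      Nat.isCoprime_iff_coprime.2 (Nat.Coprime.pow_right k hd)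
    obtain ⟨u, v, huv⟩ := hco
    refine ⟨u • m' + v • n c, ?_⟩
    calc n c = (1 : ℤ) • n c := (one_smul _ _).symm
      _ = (u * (d : ℤ) + v * ((ℓ ^ k : ℕ) : ℤ)) • n c := by rw [huv]
      _ = u • ((d : ℕ) • n c) + (v * ((ℓ ^ k : ℕ) : ℤ)) • n c := by
        rw [add_smul, mul_smul, natCast_zsmul]
      _ = u • (ℓ ^ k • m') + ℓ ^ k • (v • n c) := by
        rw [hm', mul_comm v, mul_smul, natCast_zsmul]
      _ = ℓ ^ k • (u • m' + v • n c) := by rw [smul_comm, smul_add]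
  let c : I' := ⟨g * s * g⁻¹, Subgroup.Normal.conj_mem inferInstance _ s.2 g⟩ * s⁻¹
  have hc : n c = 0 := by
    apply key
    intro a z hz
    refine comm_fix R K Ω hR (ℓ ^ a) ?_ hπ.ne_zero hz g s
    rw [Nat.cast_pow]
    exact hu.pow a
  have h1 : (⟨g * s * g⁻¹, Subgroup.Normal.conj_mem inferInstance _ s.2 g⟩ : I') = c * s := by
    rw [inv_mul_cancel_right]
  rw [h1, hn, hc, zero_add]

end

section sepClosure

variable (R K Ω : Type u) [CommRing R] [IsDomain R] [IsDiscreteValuationRing R]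
  [Field K] [Algebra R K] [IsFractionRing R K] [Field Ω] [Algebra K Ω] [IsSepClosure K Ω]

theorem isUnit_of_residue_ne_zero {R : Type u} [CommRing R] [IsLocalRing R] {ℓ : ℕ}
    (hℓp : (ℓ : IsLocalRing.ResidueField R) ≠ 0) : IsUnit (ℓ : R) := by
  by_contra h
  apply hℓp
  have h1 := (IsLocalRing.residue_eq_zero_iff (ℓ : R)).2 h
  rwa [map_natCast] at h1

/-- `exists_coprime_pow_mem` for a separable closure `Ω` of `K`, with the hypotheses of the rows. -/
theorem exists_coprime_pow_mem' (hR : EtCoh.IsStrictlyHenselianLocalRing R)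
    (ℓ : ℕ) (hℓ : ℓ.Prime) (hℓp : (ℓ : IsLocalRing.ResidueField R) ≠ 0) {π : R}
    (hπ : Irreducible π) (s : Ω ≃ₐ[K] Ω)
    (hs : ∀ (a : ℕ) (z : Ω), z ^ (ℓ ^ a) = algebraMap K Ω (algebraMap R K π) → s z = z)
    (U : Subgroup (Ω ≃ₐ[K] Ω)) (hU : IsOpen (U : Set (Ω ≃ₐ[K] Ω))) :
    ∃ d : ℕ, d.Coprime ℓ ∧ s ^ d ∈ U := by
  have : Fact ℓ.Prime := ⟨hℓ⟩
  have : IsSepClosed Ω := IsSepClosure.sep_closed K
  have : IsGalois K Ω := IsSepClosure.isGalois
  let _ : Algebra R Ω := ((algebraMap K Ω).comp (algebraMap R K)).toAlgebra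
  have : IsScalarTower R K Ω := .of_algebraMap_eq fun _ => rfl
  exact exists_coprime_pow_mem R K Ω hR ℓ (isUnit_of_residue_ne_zero hℓp) hπ s hs U hU

/-- `comm_fix` for a separable closure `Ω` of `K`, with the hypotheses of the rows. -/
theorem comm_fix' (hR : EtCoh.IsStrictlyHenselianLocalRing R) (m : ℕ)
    (hm : (m : IsLocalRing.ResidueField R) ≠ 0) {a : R} (ha : a ≠ 0) {z : Ω}
    (hz : z ^ m = algebraMap K Ω (algebraMap R K a)) (g s : Ω ≃ₐ[K] Ω) :
    (g * s * g⁻¹ * s⁻¹) z = z := by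
  have : IsGalois K Ω := IsSepClosure.isGalois
  let _ : Algebra R Ω := ((algebraMap K Ω).comp (algebraMap R K)).toAlgebra
  have : IsScalarTower R K Ω := .of_algebraMap_eq fun _ => rfl
  exact comm_fix R K Ω hR m (isUnit_of_residue_ne_zero hm) ha hz g s

/-- (T2) for a separable closure `Ω` of `K`, with the hypotheses of the rows. -/
theorem tame' (hR : EtCoh.IsStrictlyHenselianLocalRing R)
    (ℓ : ℕ) (hℓ : ℓ.Prime) (hℓp : (ℓ : IsLocalRing.ResidueField R) ≠ 0)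
    (I' : Subgroup (Ω ≃ₐ[K] Ω)) (hI' : I'.Normal) {M : Type*} [AddCommGroup M]
    (hsep : ∀ m : M, (∀ k : ℕ, ∃ m' : M, m = ℓ ^ k • m') → m = 0)
    (n : I' → M) (hn : ∀ s t, n (s * t) = n s + n t)
    (hcont : ∀ k : ℕ, ∃ U : Subgroup (Ω ≃ₐ[K] Ω), IsOpen (U : Set (Ω ≃ₐ[K] Ω)) ∧
      ∀ s : I', (s : Ω ≃ₐ[K] Ω) ∈ U → ∃ m' : M, n s = ℓ ^ k • m')
    (g : Ω ≃ₐ[K] Ω) (s : I') :
    n ⟨g * s * g⁻¹, hI'.conj_mem _ s.2 g⟩ = n s := by
  have : Fact ℓ.Prime := ⟨hℓ⟩
  have : IsSepClosed Ω := IsSepClosure.sep_closed K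
  have : IsGalois K Ω := IsSepClosure.isGalois
  let _ : Algebra R Ω := ((algebraMap K Ω).comp (algebraMap R K)).toAlgebra
  have : IsScalarTower R K Ω := .of_algebraMap_eq fun _ => rfl
  exact tame R K Ω hR ℓ (isUnit_of_residue_ne_zero hℓp) I' hsep n hn hcont g s

/-- Finite level form of (T2): `n : I' → M` a homomorphism with values in a group killed by
`ℓ ^ k`, trivial on `U ∩ I'` for an open subgroup `U`. -/
theorem tame_finite (hR : EtCoh.IsStrictlyHenselianLocalRing R)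
    (ℓ : ℕ) (hℓ : ℓ.Prime) (hℓp : (ℓ : IsLocalRing.ResidueField R) ≠ 0)
    (I' : Subgroup (Ω ≃ₐ[K] Ω)) (hI' : I'.Normal) {M : Type*} [AddCommGroup M] (k : ℕ)
    (hk : ∀ m : M, ℓ ^ k • m = 0)
    (n : I' → M) (hn : ∀ s t, n (s * t) = n s + n t)
    (U : Subgroup (Ω ≃ₐ[K] Ω)) (hU : IsOpen (U : Set (Ω ≃ₐ[K] Ω)))
    (hUn : ∀ s : I', (s : Ω ≃ₐ[K] Ω) ∈ U → n s = 0)
    (g : Ω ≃ₐ[K] Ω) (s : I') :
    n ⟨g * s * g⁻¹, hI'.conj_mem _ s.2 g⟩ = n s := by
  refine tame' R K Ω hR ℓ hℓ hℓp I' hI' (fun m hm => ?_) n hn (fun j => ⟨U, hU, fun s hs => ?_⟩) g s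
  · obtain ⟨m', rfl⟩ := hm k
    exact hk m'
  · exact ⟨0, by rw [hUn s hs, smul_zero]⟩

/-- A continuous homomorphism from the whole Galois group to a group killed by `ℓ ^ k` (or any
homomorphism trivial on an open subgroup) kills the elements fixing the `ℓ`-power roots of `π`;
multiplicative form for a group of exponent `ℓ ^ k`. -/
theorem eq_one_of_fix (hR : EtCoh.IsStrictlyHenselianLocalRing R)
    (ℓ : ℕ) (hℓ : ℓ.Prime) (hℓp : (ℓ : IsLocalRing.ResidueField R) ≠ 0) {π : R}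
    (hπ : Irreducible π) {Γ : Type*} [Group Γ] (k : ℕ)
    (I' : Subgroup (Ω ≃ₐ[K] Ω)) (f : I' →* Γ) (U : Subgroup (Ω ≃ₐ[K] Ω))
    (hU : IsOpen (U : Set (Ω ≃ₐ[K] Ω))) (hUn : ∀ s : I', (s : Ω ≃ₐ[K] Ω) ∈ U → f s = 1)
    (s : I') (hk : f s ^ (ℓ ^ k) = 1)
    (hs : ∀ (a : ℕ) (z : Ω), z ^ (ℓ ^ a) = algebraMap K Ω (algebraMap R K π) →
      (s : Ω ≃ₐ[K] Ω) z = z) : f s = 1 := by
  obtain ⟨d, hd, hdU⟩ := exists_coprime_pow_mem' R K Ω hR ℓ hℓ hℓp hπ s hs U hU
  have h1 : f s ^ d = 1 := by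
    rw [← map_pow]
    exact hUn (s ^ d) hdU
  have h2 := orderOf_dvd_of_pow_eq_one h1
  have h3 := orderOf_dvd_of_pow_eq_one hk
  have h4 : (orderOf (f s)) ∣ 1 := by
    have := Nat.dvd_gcd h2 h3
    rwa [(Nat.Coprime.pow_right k hd)] at this
  exact orderOf_eq_one_iff.1 (Nat.dvd_one.1 h4)

end sepClosure

end Groth.Agent.Sga7.H481.Tame
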